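import Groth.Prelude.Def_LinTop
import Groth.Agent.Adic.Filtration
import Mathlib.Topology.Algebra.OpenSubgroup
import Mathlib.Topology.Algebra.IsUniformGroup.Basic
import Mathlib.RingTheory.Jacobson.Ideal

/-! Basic facts on admissible rings and ideals of definition. -/

namespace Groth.Agent.LinTop.Basic

open Filter Topology

variable {A : Type*} [CommRing A] [TopologicalSpace A] [IsTopologicalRing A]

theorem isOpen_of_le {I J : Ideal A} (h : I ≤ J) (hI : IsOpen (I : Set A)) : IsOpen (J : Set A) :=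
  Submodule.isOpen_mono h hI

theorem mem_nhds_zero {I : Ideal A} (hI : IsOpen (I : Set A)) : (I : Set A) ∈ 𝓝 (0 : A) :=
  hI.mem_nhds I.zero_mem

/-- The filtration by closures of the powers of an ideal of definition. -/
def K (J : Ideal A) (n : ℕ) : Submodule A A := (J ^ n : Ideal A).topologicalClosure

theorem K_anti (J : Ideal A) : Antitone (K J) := fun _ _ h =>
  Submodule.topologicalClosure_mono (Ideal.pow_le_pow_right h)

theorem exists_K_subset [IsLinearTopology A A] {J : Ideal A}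
    (hJ : LinTop.IsIdealOfDefinition A J) {U : Set A} (hU : U ∈ 𝓝 (0 : A)) :
    ∃ n, (K J n : Set A) ⊆ U := by
  obtain ⟨V, hV, hVU⟩ := (IsLinearTopology.hasBasis_open_ideal).mem_iff.mp hU
  obtain ⟨n, -, hn⟩ := hJ.2 V (mem_nhds_zero hV)
  refine ⟨n, Set.Subset.trans ?_ hVU⟩
  exact closure_minimal hn (V.toAddSubgroup.isClosed_of_isOpen hV)

theorem good {A : Type*} [CommRing A] [UniformSpace A] [IsUniformAddGroup A] [IsTopologicalRing A]
    (hA : LinTop.IsAdmissible A) {J : Ideal A} (hJ : LinTop.IsIdealOfDefinition A J)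
    {I : Ideal A} (hIJ : I ≤ J) :
    Groth.Agent.Adic.Filtration.Good I (K J) := by
  obtain ⟨⟨hlin, -⟩, hT2, hc⟩ := hA
  refine ⟨K_anti J, fun x hx => ?_, fun s hs => ?_, fun n => ?_⟩
  · by_contra hne
    have hU : ({x}ᶜ : Set A) ∈ 𝓝 (0 : A) := isOpen_compl_singleton.mem_nhds (Ne.symm hne)
    obtain ⟨n, hn⟩ := exists_K_subset hJ hU
    exact hn (hx n) rfl
  · have hmn : ∀ {a b : ℕ}, a ≤ b → s b - s a ∈ K J a := by
      intro a b hab
      induction b, hab using Nat.le_induction with
      | base => simp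
      | succ b hab ih =>
        rw [← sub_add_sub_cancel (s (b + 1)) (s b) (s a)]
        exact (K J a).add_mem (K_anti J hab (hs b)) ih
    have hcau : CauchySeq s := by
      rw [cauchySeq_iff]
      intro V hV
      rw [uniformity_eq_comap_nhds_zero] at hV
      obtain ⟨U, hU, hUV⟩ := Filter.mem_comap.mp hV
      obtain ⟨n, hn⟩ := exists_K_subset hJ hU
      refine ⟨n, fun a ha b hb => hUV (hn ?_)⟩
      change s b - s a ∈ K J n
      rw [← sub_sub_sub_cancel_right (s b) (s a) (s n)]
      exact (K J n).sub_mem (hmn hb) (hmn ha)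
    obtain ⟨l, hl⟩ := cauchySeq_tendsto_of_complete hcau
    refine ⟨l, fun n => ?_⟩
    have hcl : IsClosed (K J n : Set A) := Submodule.isClosed_topologicalClosure _
    refine hcl.mem_of_tendsto (hl.sub_const (s n)) ?_
    filter_upwards [eventually_ge_atTop n] with b hb using hmn hb
  · rw [smul_eq_mul, Ideal.mul_top]
    exact (Ideal.pow_right_mono hIJ n).trans (Submodule.le_topologicalClosure _)

theorem isUnit_one_add {A : Type*} [CommRing A] [UniformSpace A] [IsUniformAddGroup A]
    [IsTopologicalRing A] (hA : LinTop.IsAdmissible A) {J : Ideal A}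
    (hJ : LinTop.IsIdealOfDefinition A J) {x : A} (hx : x ∈ J) : IsUnit (1 + x) := by
  have hg := good hA hJ (le_refl J)
  have hp : ∀ n, (-x) ^ n ∈ K J n := fun n =>
    Submodule.le_topologicalClosure _ (Ideal.pow_mem_pow (J.neg_mem hx) n)
  obtain ⟨l, hl⟩ := hg.compl (fun n => ∑ i ∈ Finset.range n, (-x) ^ i)
    (fun n => by rw [Finset.sum_range_succ, add_sub_cancel_left]; exact hp n)
  refine IsUnit.of_mul_eq_one l (hg.eq_of_forall fun n => ?_)
  have : (1 + x) * l - 1 = (1 + x) * (l - ∑ i ∈ Finset.range n, (-x) ^ i) - (-x) ^ n := by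
    rw [mul_sub, show (1 : A) + x = 1 - -x by ring, mul_neg_geom_sum]; ring
  rw [this]
  exact (K J n).sub_mem ((K J n).smul_mem (1 + x) (hl n)) (hp n)

theorem le_jacobson {A : Type*} [CommRing A] [UniformSpace A] [IsUniformAddGroup A]
    [IsTopologicalRing A] (hA : LinTop.IsAdmissible A) {J : Ideal A}
    (hJ : LinTop.IsIdealOfDefinition A J) : J ≤ (⊥ : Ideal A).jacobson := fun x hx =>
  Ideal.mem_jacobson_bot.mpr fun y => by
    rw [add_comm]; exact isUnit_one_add hA hJ (J.mul_mem_right y hx)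

theorem isTopologicallyNilpotent_of_pow_mem {I : Ideal A} (hI : LinTop.IsIdealOfDefinition A I)
    {x : A} {m : ℕ} (hx : x ^ m ∈ I) : IsTopologicallyNilpotent x := by
  refine tendsto_def.mpr fun U hU => ?_
  obtain ⟨k, -, hk⟩ := hI.2 U hU
  rw [Filter.mem_atTop_sets]
  refine ⟨m * k, fun n hn => hk ?_⟩
  change x ^ n ∈ I ^ k
  rw [← Nat.add_sub_cancel' hn, pow_add, pow_mul]
  exact Ideal.mul_mem_right _ _ (Ideal.pow_mem_pow hx k)

theorem exists_pow_mem {I : Ideal A} (hI : LinTop.IsIdealOfDefinition A I)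
    {x : A} (hx : IsTopologicallyNilpotent x) : ∃ m, 0 < m ∧ x ^ m ∈ I := by
  obtain ⟨N, hN⟩ := Filter.mem_atTop_sets.mp (hx (mem_nhds_zero hI.1))
  exact ⟨N + 1, N.succ_pos, hN (N + 1) (Nat.le_succ N)⟩

theorem sup_isIdealOfDefinition {I I' : Ideal A} (hI : LinTop.IsIdealOfDefinition A I) {n : ℕ}
    (hn : 0 < n) (h : I' ^ n ≤ I) : LinTop.IsIdealOfDefinition A (I ⊔ I') := by
  refine ⟨isOpen_of_le le_sup_left hI.1, fun U hU => ?_⟩
  obtain ⟨k, hk, hkU⟩ := hI.2 U hU
  have hle : ∀ m, (I ⊔ I') ^ m ≤ I ⊔ I' ^ m := by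
    intro m
    induction m with
    | zero => simp
    | succ m ih =>
      rw [pow_succ]
      refine (Ideal.mul_mono_left ih).trans ?_
      rw [Ideal.sup_mul, Ideal.mul_sup, Ideal.mul_sup, pow_succ]
      refine sup_le (sup_le ?_ ?_) (sup_le ?_ ?_) <;>
        first
          | exact le_sup_right
          | exact Ideal.mul_le_left.trans le_sup_left
          | exact Ideal.mul_le_right.trans le_sup_left
  refine ⟨n * k, Nat.mul_pos hn hk, fun y hy => hkU ?_⟩
  have : (I ⊔ I') ^ n ≤ I := (hle n).trans (sup_le le_rfl h)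
  rw [pow_mul] at hy
  exact Ideal.pow_right_mono this k hy

end Groth.Agent.LinTop.Basic
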